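import Mathlib.RingTheory.AdjoinRoot
import Mathlib.RingTheory.Etale.StandardEtale
import Mathlib.FieldTheory.Separable

/-!
# The algebra `K[T]/(T^d - c)` and its orders `O[b T]`
-/

set_option autoImplicit false
set_option backward.isDefEq.respectTransparency false

universe u

open Polynomial

namespace Groth.Agent.CycCover13

/-- `T ^ d - f`. -/
noncomputable abbrev pol {O : Type u} [CommRing O] (d : ℕ) (f : O) : O[X] := X ^ d - C f

variable {K O : Type u} [Field K] [CommRing O] {d : ℕ} (hd : 0 < d) (c : K)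

/-- The element `b T`. -/
noncomputable def tau (b : K) : AdjoinRoot (pol d c) := AdjoinRoot.of _ b * AdjoinRoot.root _

theorem tau_pow (b : K) : tau (d := d) c b ^ d = AdjoinRoot.of _ (b ^ d * c) := by
  have h : AdjoinRoot.root (pol d c) ^ d = AdjoinRoot.of _ c := by
    have := AdjoinRoot.eval₂_root (pol d c)
    rwa [pol, eval₂_sub, eval₂_X_pow, eval₂_C, sub_eq_zero] at this
  rw [tau, mul_pow, h, map_mul, map_pow]

theorem tau_mul (r b : K) : tau (d := d) c (r * b) = AdjoinRoot.of _ r * tau c b := by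
  rw [tau, tau, map_mul, mul_assoc]

theorem isUnit_tau (hd : 0 < d) (hc : c ≠ 0) {b : K} (hb : b ≠ 0) : IsUnit (tau (d := d) c b) := by
  refine (isUnit_pow_iff hd.ne').1 ?_
  rw [tau_pow]
  exact (IsUnit.mk0 _ (mul_ne_zero (pow_ne_zero _ hb) hc)).map _

include hd in
theorem monic_pol {R : Type u} [CommRing R] (f : R) : (pol d f).Monic := monic_X_pow_sub_C f hd.ne'

include hd in
theorem natDegree_pol {R : Type u} [CommRing R] [Nontrivial R] (f : R) : (pol d f).natDegree = d :=
  natDegree_X_pow_sub_C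

variable (κ : O →+* K) (f : O) (b : K) (h : κ f = b ^ d * c)

/-- `O[T]/(T^d - f) → K[T]/(T^d - c)`, `T ↦ b T`. -/
noncomputable def theta : AdjoinRoot (pol d f) →+* AdjoinRoot (pol d c) :=
  AdjoinRoot.lift ((AdjoinRoot.of (pol d c)).comp κ) (tau c b)
    (by rw [eval₂_sub, eval₂_X_pow, eval₂_C, RingHom.comp_apply, h, tau_pow, sub_self])

theorem theta_of (a : O) : theta c κ f b h (AdjoinRoot.of _ a) = AdjoinRoot.of _ (κ a) :=
  AdjoinRoot.lift_of _

theorem theta_root : theta c κ f b h (AdjoinRoot.root _) = tau c b := AdjoinRoot.lift_root _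

/-- The range is the subring generated by the image of `O` and `b T`. -/
theorem theta_range_le {S : Subring (AdjoinRoot (pol d c))} (h1 : ∀ a, AdjoinRoot.of _ (κ a) ∈ S)
    (h2 : tau c b ∈ S) : (theta c κ f b h).range ≤ S := by
  rintro _ ⟨z, rfl⟩
  obtain ⟨q, rfl⟩ := AdjoinRoot.mk_surjective z
  induction q using Polynomial.induction_on' with
  | add p q hp hq => rw [map_add, map_add]; exact add_mem hp hq
  | monomial n a =>
    rw [← C_mul_X_pow_eq_monomial, map_mul, map_pow, AdjoinRoot.mk_C, AdjoinRoot.mk_X, map_mul, map_pow,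
      theta_of, theta_root]
    exact mul_mem (h1 a) (pow_mem h2 n)

/-- Coordinates in the powers of `T`. -/
noncomputable def coord {R : Type u} [CommRing R] [Nontrivial R] (hd : 0 < d) (f : R) :
    Module.Basis (Fin d) R (AdjoinRoot (pol d f)) :=
  ((AdjoinRoot.powerBasis' (monic_pol hd f)).basis).reindex (finCongr (natDegree_pol hd f))

theorem coord_apply {R : Type u} [CommRing R] [Nontrivial R] (f : R) (i : Fin d) :
    coord hd f i = AdjoinRoot.root _ ^ (i : ℕ) := by
  simp [coord, PowerBasis.coe_basis]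

/-- The coordinates of `theta z`: `κ (zᵢ) bⁱ`. -/
theorem coord_theta [Nontrivial O] (z : AdjoinRoot (pol d f)) (i : Fin d) :
    (coord hd c).repr (theta c κ f b h z) i = κ ((coord hd f).repr z i) * b ^ (i : ℕ) := by
  conv_lhs => rw [← (coord hd f).sum_repr z, map_sum]
  have : ∀ j : Fin d, theta c κ f b h ((coord hd f).repr z j • coord hd f j) =
      (κ ((coord hd f).repr z j) * b ^ (j : ℕ)) • coord hd c j := fun j => by
    rw [coord_apply, coord_apply, Algebra.smul_def, Algebra.smul_def, AdjoinRoot.algebraMap_eq,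
      AdjoinRoot.algebraMap_eq, map_mul, map_pow, theta_of, theta_root, tau, mul_pow, map_mul, map_pow,
      mul_assoc]
  rw [Finset.sum_congr rfl fun j _ => this j, Module.Basis.repr_sum_self]

include hd in
theorem theta_injective [Nontrivial O] (hκ : Function.Injective κ) (hb : b ≠ 0) :
    Function.Injective (theta c κ f b h) := by
  intro x y hxy
  refine (coord hd f).repr.injective (Finsupp.ext fun i => hκ ?_)
  have := congrArg (fun w => (coord hd c).repr w i) hxy
  simp only [coord_theta hd c κ f b h] at this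
  exact mul_right_cancel₀ (pow_ne_zero _ hb) this

include hd in
/-- Membership in the order: coordinatewise. -/
theorem mem_range_theta_iff [Nontrivial O] (hb : b ≠ 0) (v : AdjoinRoot (pol d c)) :
    v ∈ (theta c κ f b h).range ↔ ∀ i : Fin d, ∃ a, κ a * b ^ (i : ℕ) = (coord hd c).repr v i := by
  constructor
  · rintro ⟨z, rfl⟩ i
    exact ⟨_, (coord_theta hd c κ f b h z i).symm⟩
  · intro hv
    choose a ha using hv
    refine ⟨∑ i, a i • coord hd f i, (coord hd c).repr.injective (Finsupp.ext fun i => ?_)⟩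
    rw [coord_theta hd c κ f b h, Module.Basis.repr_sum_self, ha]

/-- `R[T]/(T^d - f)` is étale for units `f` and `d`. -/
theorem etale_pol {R : Type u} [CommRing R] (hd : 0 < d) (f : R) (hf : IsUnit f) (hdu : IsUnit (d : R)) :
    Algebra.Etale R (AdjoinRoot (pol d f)) := by
  obtain ⟨u, rfl⟩ := hf
  obtain ⟨a, b, hab⟩ : (pol d (u : R)).Separable := separable_X_pow_sub_C_unit u hdu
  let P : StandardEtalePair R :=
    { f := pol d (u : R)
      monic_f := monic_pol hd _
      g := 1
      cond := ⟨b, a, 0, by rw [pow_zero, ← hab]; ring⟩ }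
  have hroot : P.HasMap (AdjoinRoot.root (pol d (u : R))) :=
    ⟨by rw [show P.f = pol d (u : R) from rfl, AdjoinRoot.aeval_eq, AdjoinRoot.mk_self], by simp [P]⟩
  let φ : P.Ring →ₐ[R] AdjoinRoot (pol d (u : R)) := P.lift (AdjoinRoot.root _) hroot
  let ψ : AdjoinRoot (pol d (u : R)) →ₐ[R] P.Ring :=
    AdjoinRoot.liftAlgHom _ (Algebra.ofId R P.Ring) P.X StandardEtalePair.hasMap_X.1
  let e : P.Ring ≃ₐ[R] AdjoinRoot (pol d (u : R)) := AlgEquiv.ofAlgHom φ ψ
    (AdjoinRoot.algHom_ext (by simp [φ, ψ])) (StandardEtalePair.hom_ext (by simp [φ, ψ]))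
  exact Algebra.Etale.of_equiv e

/-- An element whose higher coordinates vanish is a constant. -/
theorem eq_of_of_coord (v : AdjoinRoot (pol d c)) (hv : ∀ i : Fin d, (i : ℕ) ≠ 0 → (coord hd c).repr v i = 0) :
    v = AdjoinRoot.of _ ((coord hd c).repr v ⟨0, hd⟩) := by
  conv_lhs => rw [← (coord hd c).sum_repr v]
  rw [Finset.sum_eq_single (⟨0, hd⟩ : Fin d) (fun j _ hj => by
    rw [hv j (fun h0 => hj (Fin.ext h0)), zero_smul]) (fun hn => absurd (Finset.mem_univ _) hn),
    coord_apply, pow_zero, Algebra.smul_def, mul_one, AdjoinRoot.algebraMap_eq]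

end Groth.Agent.CycCover13
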