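import Groth.Agent.Lib.CycCover13.Orders
import Groth.Prelude.Def_Mor2
import Mathlib.AlgebraicGeometry.Morphisms.Etale

/-!
# Cyclic covers of integral schemes: the scheme and its properties
-/

set_option autoImplicit false
set_option backward.isDefEq.respectTransparency false
set_option backward.isDefEq.respectTransparency.types false
set_option linter.style.haveILetI false

universe u

open CategoryTheory CategoryTheory.Limits AlgebraicGeometry TopologicalSpace Opposite

noncomputable section

namespace Groth.Agent.CycCover13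

variable {X : Scheme.{u}} [IsIntegral X] {d : ℕ} (D : Dat X d)

/-- The cyclic cover. -/
def Dat.cover : Scheme.{u} := SymAlg11.affSpec (coequifibered D)

/-- Its map to the base. -/
def Dat.proj : D.cover ⟶ X := SymAlg11.affπ (coequifibered D)

instance : IsAffineHom D.proj := inferInstanceAs (IsAffineHom (SymAlg11.affπ (coequifibered D)))

/-- The open affine of the index `i`, as an object of the affine site. -/
abbrev Dat.W (i : D.ι) : X.AffineZariskiSite := ⟨D.V i, D.aff i⟩

/-- `Γ(V)[T]/(T^d - f)`. -/
abbrev Dat.A (i : D.ι) : Type u :=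
  AdjoinRoot (pol d (X.presheaf.map (homOfLE (le_refl (D.V i))).op (D.f i)))

theorem chart_hyp (i : D.ι) {U : X.Opens} (h : U ≤ D.V i) {x : X} (hx : x ∈ U) :
    toK hx (X.presheaf.map (homOfLE h).op (D.f i)) = D.b i ^ d * D.c := by
  show algebraMap _ _ (X.presheaf.germ U x hx _) = _
  rw [TopCat.Presheaf.germ_res_apply]
  exact stalk_hf D i (h hx)

/-- The chart ring. -/
def Dat.chartEquiv (i : D.ι) : D.A i ≃+* D.F (D.V i) :=
  haveI := D.ne i
  RingEquiv.ofBijective (D.chart i le_rfl) (bijective_chart D i le_rfl)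

theorem chart_algebraMap (i : D.ι) (a : Γ(X, D.V i)) :
    D.chartEquiv i (algebraMap Γ(X, D.V i) (D.A i) a) = D.str (D.V i) a := by
  refine Subtype.ext (funext fun x => ?_)
  show theta D.c (toK x.2) (X.presheaf.map (homOfLE (le_refl (D.V i))).op (D.f i)) (D.b i) (chart_hyp D i le_rfl x.2) (AdjoinRoot.of _ a) = _
  exact theta_of _ _ _ _ _ a

theorem isPullback_chart (U : X.AffineZariskiSite) :
    IsPullback (SymAlg11.affι (coequifibered D) U) (Spec.map (D.α.app (op U))) D.proj U.2.fromSpec :=
  (IsOpenImmersion.isPullback (Spec.map (D.α.app (op U))) (SymAlg11.affι (coequifibered D) U) U.2.fromSpec D.proj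
    (SymAlg11.affι_π (coequifibered D) U) (by
      rw [U.2.opensRange_fromSpec]
      exact SymAlg11.affπ_preimage (coequifibered D) U)).flip

/-- The open cover by the `V i`. -/
def Dat.openCover : X.OpenCover :=
  Scheme.Cover.mkOfCovers D.ι (fun i => Spec Γ(X, D.V i)) (fun i => (D.aff i).fromSpec)
    (fun x => by
      obtain ⟨i, hi⟩ := D.cov x
      have h : x ∈ Set.range (D.aff i).fromSpec := by rwa [(D.aff i).range_fromSpec]
      obtain ⟨y, hy⟩ := h
      exact ⟨i, y, hy⟩)
    (fun i => inferInstanceAs (IsOpenImmersion (D.aff i).fromSpec))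

theorem of_charts {P : MorphismProperty Scheme.{u}} [IsZariskiLocalAtTarget P]
    (h : ∀ i, P (Spec.map (D.α.app (op (D.W i))))) : P D.proj := by
  refine (IsZariskiLocalAtTarget.iff_of_openCover D.openCover).2 fun i => ?_
  refine (MorphismProperty.cancel_left_of_respectsIso P (isPullback_chart D (D.W i)).isoPullback.hom _).1 ?_
  show P ((isPullback_chart D (D.W i)).isoPullback.hom ≫ pullback.snd D.proj (D.aff i).fromSpec)
  rw [IsPullback.isoPullback_hom_snd]
  exact h i

/-- The `Γ(V)`-algebra structure of the chart, transported. -/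
def Dat.algEquiv (i : D.ι) :
    letI := (D.str (D.V i)).toAlgebra
    D.A i ≃ₐ[Γ(X, D.V i)] D.F (D.V i) :=
  letI := (D.str (D.V i)).toAlgebra
  AlgEquiv.ofRingEquiv (f := D.chartEquiv i) (chart_algebraMap D i)

theorem chart_props (i : D.ι) :
    (D.str (D.V i)).Finite ∧ (D.str (D.V i)).Flat ∧ (D.str (D.V i)).FinitePresentation ∧
      (∀ p, (D.str (D.V i)).finrank p = d) ∧
      (IsUnit (d : Γ(X, D.V i)) → (D.str (D.V i)).Etale) := by
  letI := (D.str (D.V i)).toAlgebra
  haveI := D.ne i
  haveI : Nontrivial Γ(X, D.V i) := X.component_nontrivial (D.V i)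
  let f := X.presheaf.map (homOfLE (le_refl (D.V i))).op (D.f i)
  have hm : (pol d f).Monic := monic_pol D.hd f
  haveI : Module.Free Γ(X, D.V i) (D.A i) := hm.free_adjoinRoot
  haveI : Module.Finite Γ(X, D.V i) (D.A i) := hm.finite_adjoinRoot
  haveI : Module.Free Γ(X, D.V i) (D.F (D.V i)) := Module.Free.of_equiv (D.algEquiv i).toLinearEquiv
  haveI : Module.Finite Γ(X, D.V i) (D.F (D.V i)) := Module.Finite.equiv (D.algEquiv i).toLinearEquiv
  haveI hfp : Algebra.FinitePresentation Γ(X, D.V i) (D.A i) := AdjoinRoot.finitePresentation _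
  refine ⟨RingHom.finite_algebraMap.2 inferInstance, RingHom.flat_algebraMap_iff.2 inferInstance,
    RingHom.finitePresentation_algebraMap.2 (hfp.equiv (D.algEquiv i)), fun p => ?_, fun hdu => ?_⟩
  · show ((algebraMap Γ(X, D.V i) (D.F (D.V i)))).finrank p = d
    rw [RingHom.finrank_algebraMap, Module.rankAtStalk_eq_finrank_of_free]
    simp only [Pi.natCast_apply, Nat.cast_id]
    rw [← (D.algEquiv i).toLinearEquiv.finrank_eq, Module.finrank_eq_card_basis (coord D.hd f),
      Fintype.card_fin]
  · refine RingHom.etale_algebraMap.2 ?_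
    haveI : Algebra.Etale Γ(X, D.V i) (D.A i) := etale_pol D.hd f ((D.hfu i).map _) hdu
    exact Algebra.Etale.of_equiv (D.algEquiv i)

/-- The cyclic cover is finite locally free of degree `d`. -/
theorem isFinLocFreeOfDeg : Mor2.IsFinLocFreeOfDeg d D.proj := by
  haveI hfin : IsFinite D.proj := of_charts D (P := @IsFinite) fun i =>
    (IsFinite.SpecMap_iff _).2 (chart_props D i).1
  haveI hflat : Flat D.proj := of_charts D (P := @Flat) fun i => Flat.SpecMap_iff.2 (chart_props D i).2.1
  refine ⟨⟨hfin, hflat, of_charts D (P := @LocallyOfFinitePresentation) fun i =>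
    (LocallyOfFinitePresentation.SpecMap_iff _).2 (chart_props D i).2.2.1⟩, fun y => ?_⟩
  obtain ⟨i, hi⟩ := D.cov y
  have h : y ∈ Set.range (D.aff i).fromSpec := by rwa [(D.aff i).range_fromSpec]
  obtain ⟨q, rfl⟩ := h
  refine (Scheme.Hom.finrank_of_isPullback _ _ _ _ (isPullback_chart D (D.W i)) q).symm.trans ?_
  erw [Scheme.Hom.finrank_SpecMap_eq_finrank (chart_props D i).1 (chart_props D i).2.1]
  exact (chart_props D i).2.2.2.1 q

/-- The cyclic cover is étale when `d` is invertible. -/
theorem etale (hdu : IsUnit ((d : ℕ) : (Γ(X, ⊤) : Type u))) : Etale D.proj :=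
  of_charts D (P := @Etale) fun i =>
    (HasRingHomProperty.Spec_iff (P := @Etale)).2 ((chart_props D i).2.2.2.2 (by
      have := hdu.map (X.presheaf.map (homOfLE le_top : D.V i ⟶ ⊤).op).hom
      rwa [map_natCast] at this))

end Groth.Agent.CycCover13
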