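import Groth.Agent.Lib.CycCover13.Alg
import Groth.Agent.Lib.SymAlg11.OfAffine
import Groth.Agent.Lib.VarDim.Normal
import Mathlib.AlgebraicGeometry.FunctionField

/-!
# Cyclic covers of integral schemes: the orders in `K[T]/(T^d - c)`
-/

set_option autoImplicit false
set_option backward.isDefEq.respectTransparency false
set_option backward.isDefEq.respectTransparency.types false
set_option linter.style.haveILetI false

universe u

open CategoryTheory CategoryTheory.Limits AlgebraicGeometry TopologicalSpace Opposite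

noncomputable section

namespace Groth.Agent.CycCover13

variable (X : Scheme.{u}) [IsIntegral X]

/-- The data of a cyclic cover: a cover by affines `V i`, functions `b i` whose ratios are local units, and
units `f i` with `f i = (b i) ^ d * c`. -/
structure Dat (d : ℕ) where
  hd : 0 < d
  ι : Type u
  c : X.functionField
  hc : c ≠ 0
  V : ι → X.Opens
  aff : ∀ i, IsAffineOpen (V i)
  ne : ∀ i, Nonempty (V i)
  cov : ∀ x : X, ∃ i, x ∈ V i
  b : ι → X.functionField
  hb : ∀ i, b i ≠ 0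
  f : ∀ i, Γ(X, V i)
  hf : ∀ i, haveI := ne i; X.germToFunctionField (V i) (f i) = b i ^ d * c
  hfu : ∀ i, IsUnit (f i)
  htr : ∀ i j, ∀ x ∈ V i ⊓ V j, ∃ g : X.presheaf.stalk x,
    algebraMap (X.presheaf.stalk x) X.functionField g * b i = b j

variable {X} {d : ℕ} (D : Dat X d)

/-- `K[T]/(T^d - c)`. -/
abbrev Dat.R : Type u := AdjoinRoot (pol d D.c)

/-- Germ, then into the function field. -/
def toK {U : X.Opens} {x : X} (hx : x ∈ U) : Γ(X, U) →+* X.functionField :=
  (algebraMap (X.presheaf.stalk x) X.functionField).comp (X.presheaf.germ U x hx).hom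

theorem toK_eq {U : X.Opens} [Nonempty U] {x : X} (hx : x ∈ U) (a : Γ(X, U)) :
    toK hx a = X.germToFunctionField U a := VarDim.germ_functionField_eq U x hx a

theorem toK_congr {U : X.Opens} {x y : X} (hx : x ∈ U) (hy : y ∈ U) (a : Γ(X, U)) : toK hx a = toK hy a := by
  haveI : Nonempty U := ⟨⟨x, hx⟩⟩
  rw [toK_eq hx, toK_eq hy]

theorem coord_of_mul {d : ℕ} {K : Type u} [Field K] (hd : 0 < d) (c s : K) (w : AdjoinRoot (pol d c)) (k : Fin d) :
    (coord hd c).repr (AdjoinRoot.of _ s * w) k = s * (coord hd c).repr w k := by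
  rw [← AdjoinRoot.algebraMap_eq, ← Algebra.smul_def, map_smul, Finsupp.smul_apply, smul_eq_mul]

theorem stalk_hf (i : D.ι) {x : X} (hx : x ∈ D.V i) :
    algebraMap (X.presheaf.stalk x) X.functionField (X.presheaf.germ (D.V i) x hx (D.f i)) = D.b i ^ d * D.c := by
  haveI := D.ne i
  exact (toK_eq hx (D.f i)).trans (D.hf i)

/-- The order at `x` computed in the chart `i`. -/
def Dat.ord (i : D.ι) {x : X} (hx : x ∈ D.V i) : Subring D.R :=
  (theta D.c (algebraMap (X.presheaf.stalk x) X.functionField) _ (D.b i) (stalk_hf D i hx)).range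

theorem ord_le (i j : D.ι) {x : X} (hi : x ∈ D.V i) (hj : x ∈ D.V j) : D.ord j hj ≤ D.ord i hi := by
  refine theta_range_le _ _ _ _ _ (fun a => ⟨AdjoinRoot.of _ a, theta_of _ _ _ _ _ a⟩) ?_
  obtain ⟨g, hg⟩ := D.htr i j x ⟨hi, hj⟩
  exact ⟨AdjoinRoot.of _ g * AdjoinRoot.root _, by rw [map_mul, theta_of, theta_root, ← tau_mul, hg]⟩

/-- The sections over `U`: constants lying in every order. -/
def Dat.F (U : X.Opens) : Subring (U → D.R) where
  carrier := {v | (∀ x y, v x = v y) ∧ ∀ (x : U) (i : D.ι) (hi : (x : X) ∈ D.V i), v x ∈ D.ord i hi}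
  mul_mem' ha hb := ⟨fun x y => by simp only [Pi.mul_apply, ha.1 x y, hb.1 x y],
    fun x i hi => mul_mem (ha.2 x i hi) (hb.2 x i hi)⟩
  one_mem' := ⟨fun _ _ => rfl, fun _ _ _ => one_mem _⟩
  add_mem' ha hb := ⟨fun x y => by simp only [Pi.add_apply, ha.1 x y, hb.1 x y],
    fun x i hi => add_mem (ha.2 x i hi) (hb.2 x i hi)⟩
  zero_mem' := ⟨fun _ _ => rfl, fun _ _ _ => zero_mem _⟩
  neg_mem' ha := ⟨fun x y => by simp only [Pi.neg_apply, ha.1 x y], fun x i hi => neg_mem (ha.2 x i hi)⟩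

/-- Restriction. -/
def Dat.res {U W : X.Opens} (h : W ≤ U) : D.F U →+* D.F W where
  toFun v := ⟨fun x => v.1 ⟨x.1, h x.2⟩, fun _ _ => v.2.1 _ _, fun x i hi => v.2.2 ⟨x.1, h x.2⟩ i hi⟩
  map_one' := rfl
  map_mul' _ _ := rfl
  map_zero' := rfl
  map_add' _ _ := rfl

/-- The structure map. -/
def Dat.str (U : X.Opens) : Γ(X, U) →+* D.F U :=
  (RingHom.codRestrict (RingHom.pi fun x : U => (AdjoinRoot.of (pol d D.c)).comp (toK x.2)) (D.F U)
    fun a => ⟨fun x y => by
      haveI : Nonempty U := ⟨x⟩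
      show AdjoinRoot.of _ (toK x.2 a) = AdjoinRoot.of _ (toK y.2 a)
      rw [toK_eq x.2, toK_eq y.2],
     fun x i hi => ⟨AdjoinRoot.of _ (X.presheaf.germ U x.1 x.2 a), theta_of _ _ _ _ _ _⟩⟩)

theorem str_apply (U : X.Opens) (a : Γ(X, U)) (x : U) :
    (D.str U a).1 x = AdjoinRoot.of _ (toK x.2 a) := rfl

/-- The presheaf on affine opens. -/
def Dat.functor : X.AffineZariskiSiteᵒᵖ ⥤ CommRingCat.{u} where
  obj U := CommRingCat.of (D.F U.unop.1)
  map i := CommRingCat.ofHom (D.res (Scheme.AffineZariskiSite.toOpens_mono i.unop.le))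

/-- The structure map, as a transformation. -/
def Dat.α : (Scheme.AffineZariskiSite.toOpensFunctor X).op ⋙ X.presheaf ⟶ D.functor where
  app U := CommRingCat.ofHom (D.str U.unop.1)
  naturality U W i := by
    ext a
    refine Subtype.ext (funext fun x => ?_)
    show (D.str W.unop.1 (X.presheaf.map _ a)).1 x = (D.str U.unop.1 a).1 _
    rw [str_apply, str_apply]
    congr 1
    exact congrArg (algebraMap (X.presheaf.stalk x.1) X.functionField)
      (TopCat.Presheaf.germ_res_apply X.presheaf _ _ _ _)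

/-- The chart: `Γ(U)[T]/(T^d - f) → F(U)` for `U ⊆ V i`. -/
def Dat.chart (i : D.ι) {U : X.Opens} (h : U ≤ D.V i) :
    AdjoinRoot (pol d (X.presheaf.map (homOfLE h).op (D.f i))) →+* D.F U :=
  RingHom.codRestrict
    (RingHom.pi fun x : U => theta D.c (toK x.2) _ (D.b i) (by
      show algebraMap _ _ (X.presheaf.germ U x.1 x.2 _) = _
      rw [TopCat.Presheaf.germ_res_apply]
      exact stalk_hf D i (h x.2)))
    (D.F U) fun z => by
      obtain ⟨q, rfl⟩ := AdjoinRoot.mk_surjective z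
      constructor
      · intro x y
        haveI : Nonempty U := ⟨x⟩
        simp only [RingHom.pi_apply, theta, AdjoinRoot.lift_mk]
        congr 2
        ext a
        exact toK_congr _ _ a
      · intro x j hj
        refine ord_le D j i hj (h x.2) ?_
        refine (theta_range_le D.c (toK x.2) (X.presheaf.map (homOfLE h).op (D.f i)) (D.b i) (by
            show algebraMap _ _ (X.presheaf.germ U x.1 x.2 _) = _
            rw [TopCat.Presheaf.germ_res_apply]
            exact stalk_hf D i (h x.2)) (S := D.ord i (h x.2)) ?_ ?_) ⟨AdjoinRoot.mk _ q, rfl⟩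
        · exact fun a => ⟨AdjoinRoot.of _ (X.presheaf.germ U x.1 x.2 a), theta_of _ _ _ _ _ _⟩
        · exact ⟨AdjoinRoot.root _, theta_root _ _ _ _ _⟩

theorem bijective_chart (i : D.ι) {U : X.Opens} (h : U ≤ D.V i) [hU : Nonempty U] :
    Function.Bijective (D.chart i h) := by
  obtain ⟨x⟩ := id hU
  have hinj : Function.Injective (toK x.2) := fun a a' e => by
    rw [toK_eq x.2, toK_eq x.2] at e
    exact X.germToFunctionField_injective U e
  refine ⟨fun z z' e => theta_injective D.hd D.c (toK x.2) _ (D.b i) (by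
      show algebraMap _ _ (X.presheaf.germ U x.1 x.2 _) = _
      rw [TopCat.Presheaf.germ_res_apply]
      exact stalk_hf D i (h x.2)) hinj (D.hb i) (congrArg (fun w => w.1 x) e),
    fun v => ?_⟩
  have hv : ∀ k : Fin d, ∃ a : Γ(X, U),
      X.germToFunctionField U a * D.b i ^ (k : ℕ) = (coord D.hd D.c).repr (v.1 x) k := by
    intro k
    obtain ⟨a, ha⟩ := VarDim.exists_section_of_forall_stalk U
      ((coord D.hd D.c).repr (v.1 x) k / D.b i ^ (k : ℕ)) fun y hy => by
      have := v.2.2 ⟨y, hy⟩ i (h hy)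
      rw [← v.2.1 x ⟨y, hy⟩] at this
      obtain ⟨a, ha⟩ := (mem_range_theta_iff D.hd D.c _ _ _ _ (D.hb i) _).1 this k
      exact ⟨a, by rw [← ha, mul_div_cancel_right₀ _ (pow_ne_zero _ (D.hb i))]⟩
    exact ⟨a, by rw [ha, div_mul_cancel₀ _ (pow_ne_zero _ (D.hb i))]⟩
  choose a ha using hv
  obtain ⟨z, hz⟩ := (mem_range_theta_iff D.hd D.c (toK x.2) (X.presheaf.map (homOfLE h).op (D.f i)) (D.b i) (by
      show algebraMap _ _ (X.presheaf.germ U x.1 x.2 _) = _
      rw [TopCat.Presheaf.germ_res_apply]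
      exact stalk_hf D i (h x.2)) (D.hb i) (v.1 x)).2 fun k => ⟨a k, by rw [toK_eq x.2, ha]⟩
  refine ⟨z, Subtype.ext (funext fun y => ?_)⟩
  rw [(D.chart i h z).2.1 y x, v.2.1 y x]
  exact hz

/-- Clearing denominators in the orders. -/
theorem exists_pow_mul_mem {U : X.Opens} (hU : IsAffineOpen U) (r : Γ(X, U)) (v : D.F (X.basicOpen r))
    (w : D.R) (hw : ∀ x, v.1 x = w) (hw0 : IsEmpty (X.basicOpen r) → w = 0) :
    ∃ n : ℕ, ∀ (x : U) (i : D.ι) (hi : (x : X) ∈ D.V i),
      AdjoinRoot.of _ (toK x.2 r) ^ n * w ∈ D.ord i hi := by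
  classical
  rcases isEmpty_or_nonempty (X.basicOpen r) with he | hne
  · exact ⟨0, fun x i hi => by rw [hw0 he, mul_zero]; exact zero_mem _⟩
  obtain ⟨p⟩ := id hne
  have hloc : ∀ x : U, ∃ (j : D.ι) (W : X.Opens), (x : X) ∈ W ∧ W ≤ U ∧ W ≤ D.V j ∧
      ∃ n : ℕ, ∀ (y : X) (hyW : y ∈ W) (hy : y ∈ U) (k : Fin d), ∃ a : X.presheaf.stalk y,
        algebraMap (X.presheaf.stalk y) X.functionField a * D.b j ^ (k : ℕ) =
          toK hy r ^ n * (coord D.hd D.c).repr w k := by
    intro x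
    obtain ⟨j, hj⟩ := D.cov x.1
    obtain ⟨W, hW, hxW, hWU⟩ := exists_isAffineOpen_mem_and_subset (U := U ⊓ D.V j) ⟨x.2, hj⟩
    have hWU' : W ≤ U := fun y hy => (hWU hy).1
    have hWj : W ≤ D.V j := fun y hy => (hWU hy).2
    let r' : Γ(X, W) := X.presheaf.map (homOfLE hWU').op r
    have hle : X.basicOpen r' ≤ X.basicOpen r := by
      rw [Scheme.basicOpen_res]; exact inf_le_right
    haveI hWne : Nonempty W := ⟨⟨x.1, hxW⟩⟩
    haveI : Nonempty (X.basicOpen r' : X.Opens) := by
      obtain ⟨y, hy⟩ := nonempty_preirreducible_inter W.2 (X.basicOpen r).2 ⟨x.1, hxW⟩ ⟨p.1, p.2⟩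
      exact ⟨⟨y, by rw [Scheme.basicOpen_res]; exact hy⟩⟩
    obtain ⟨z, hz⟩ := (bijective_chart D j ((X.basicOpen_le r').trans hWj)).2 (D.res hle v)
    haveI := hW.isLocalization_basicOpen r'
    have hcoef : ∀ k : Fin d, ∃ (n : ℕ) (a : Γ(X, W)),
        X.germToFunctionField W a * D.b j ^ (k : ℕ) =
          X.germToFunctionField W r' ^ n * (coord D.hd D.c).repr w k := by
      intro k
      obtain ⟨y⟩ := (inferInstance : Nonempty (X.basicOpen r' : X.Opens))
      have hk : toK y.2 ((coord D.hd _).repr z k) * D.b j ^ (k : ℕ) = (coord D.hd D.c).repr w k := by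
        rw [← coord_theta D.hd D.c (toK y.2) _ (D.b j) (by
          show algebraMap _ _ (X.presheaf.germ _ y.1 y.2 _) = _
          rw [TopCat.Presheaf.germ_res_apply]
          exact stalk_hf D j _) z k, ← hw ⟨y.1, hle y.2⟩]
        exact congrArg (fun t => (coord D.hd D.c).repr t k) (congrFun (congrArg Subtype.val hz) y)
      obtain ⟨n, a, ha⟩ := IsLocalization.Away.surj r' ((coord D.hd _).repr z k)
      refine ⟨n, a, ?_⟩
      have e : ∀ t : Γ(X, W), toK y.2 (algebraMap Γ(X, W) Γ(X, X.basicOpen r') t) =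
          X.germToFunctionField W t := fun t => by
        rw [← toK_eq (X.basicOpen_le r' y.2)]
        exact congrArg (algebraMap (X.presheaf.stalk y.1) X.functionField)
          (TopCat.Presheaf.germ_res_apply X.presheaf _ _ _ _)
      rw [← e a, ← ha, map_mul, map_pow, e, ← hk]
      ring
    choose n a ha using hcoef
    refine ⟨j, W, hxW, hWU', hWj, Finset.univ.sup n, fun y hyW hy k => ?_⟩
    obtain ⟨e, he⟩ := Nat.exists_eq_add_of_le (Finset.le_sup (f := n) (Finset.mem_univ k))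
    refine ⟨X.presheaf.germ W y hyW (r' ^ e * a k), ?_⟩
    have hr : toK hy r = X.germToFunctionField W r' := by
      rw [← toK_eq hyW]
      exact (congrArg (algebraMap (X.presheaf.stalk y) X.functionField)
        (TopCat.Presheaf.germ_res_apply X.presheaf _ _ _ _)).symm
    rw [VarDim.germ_functionField_eq W y hyW, map_mul, map_pow, mul_assoc, ha k, hr, he, pow_add]
    ring
  choose j W hxW hWU hWj n hn using hloc
  obtain ⟨t, ht⟩ := hU.isCompact.elim_finite_subcover (fun x : U => (W x : Set X)) (fun x => (W x).2)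
    (fun x hx => Set.mem_iUnion.2 ⟨⟨x, hx⟩, hxW _⟩)
  refine ⟨t.sup n, fun x i hi => ?_⟩
  obtain ⟨q, hq, hxq⟩ := Set.mem_iUnion₂.1 (ht x.2)
  refine ord_le D i (j q) hi (hWj q hxq) ?_
  rw [Dat.ord, mem_range_theta_iff D.hd D.c _ _ _ _ (D.hb _)]
  intro k
  obtain ⟨a, ha⟩ := hn q x.1 hxq x.2 k
  obtain ⟨e, he⟩ := Nat.exists_eq_add_of_le (Finset.le_sup (f := n) hq)
  refine ⟨X.presheaf.germ U x.1 x.2 (r ^ e) * a, ?_⟩
  rw [← map_pow (AdjoinRoot.of _), coord_of_mul, map_mul, mul_assoc, ha, he, map_pow, map_pow, pow_add]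
  show toK x.2 r ^ e * _ = _
  ring

/-- The localisation property. -/
theorem coequifibered : D.α.Coequifibered := by
  refine Scheme.AffineZariskiSite.coequifibered_iff_forall_isLocalizationAway.mpr fun U r => ?_
  let φ := D.res (X.basicOpen_le r)
  letI : Algebra (D.F U.1) (D.F (X.basicOpen r)) := φ.toAlgebra
  change IsLocalization.Away (D.str U.1 r) (D.F (X.basicOpen r))
  have hunit : ∀ x : (X.basicOpen r : X.Opens), toK (X.basicOpen_le r x.2) r ≠ 0 := fun x => by
    show algebraMap _ X.functionField _ ≠ 0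
    refine (IsUnit.map _ ?_).ne_zero
    exact (Scheme.mem_basicOpen X r x.1 (X.basicOpen_le r x.2)).1 x.2
  refine IsLocalization.Away.mk (D.str U.1 r) ?_ ?_ ?_
  · refine isUnit_iff_exists_inv.2 ⟨⟨fun x => AdjoinRoot.of _ (toK (X.basicOpen_le r x.2) r)⁻¹, ?_, ?_⟩,
      Subtype.ext (funext fun x => ?_)⟩
    · intro x y
      exact congrArg (fun t => AdjoinRoot.of (pol d D.c) t⁻¹) (toK_congr _ _ r)
    · intro x i hi
      obtain ⟨w, hw⟩ := ((Scheme.mem_basicOpen X r x.1 (X.basicOpen_le r x.2)).1 x.2).exists_right_inv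
      refine ⟨AdjoinRoot.of _ w, ?_⟩
      rw [theta_of]
      congr 1
      refine eq_inv_of_mul_eq_one_right ?_
      show algebraMap _ _ _ * _ = 1
      rw [← map_mul, hw, map_one]
    · show AdjoinRoot.of _ (toK _ r) * AdjoinRoot.of _ _ = 1
      rw [← map_mul, mul_inv_cancel₀ (hunit x), map_one]
  · intro v
    obtain ⟨w, hw, hw0⟩ : ∃ w, (∀ x, v.1 x = w) ∧ (IsEmpty (X.basicOpen r) → w = 0) := by
      rcases isEmpty_or_nonempty (X.basicOpen r) with he | ⟨⟨p⟩⟩
      · exact ⟨0, fun x => (he.false x).elim, fun _ => rfl⟩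
      · exact ⟨v.1 p, fun x => v.2.1 x p, fun he => (he.false p).elim⟩
    obtain ⟨n, hn⟩ := exists_pow_mul_mem D U.2 r v w hw hw0
    refine ⟨n, ⟨fun x => AdjoinRoot.of _ (toK x.2 r) ^ n * w, ?_, hn⟩, Subtype.ext (funext fun x => ?_)⟩
    · intro x y
      exact congrArg (fun t => AdjoinRoot.of (pol d D.c) t ^ n * w) (toK_congr _ _ r)
    · show v.1 x * AdjoinRoot.of _ (toK _ r) ^ n = AdjoinRoot.of _ (toK _ r) ^ n * w
      rw [hw x, mul_comm]
  · intro a a' e
    rcases isEmpty_or_nonempty (X.basicOpen r) with he | ⟨⟨p⟩⟩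
    · refine ⟨1, Subtype.ext (funext fun x => ?_)⟩
      have h0 : toK x.2 r = 0 := by
        have : r = 0 := by
          rw [← basicOpen_eq_bot_iff]
          exact Opens.ext (Set.eq_empty_of_forall_notMem fun y hy => he.false ⟨y, hy⟩)
        rw [this, map_zero]
      show AdjoinRoot.of _ (toK x.2 r) ^ 1 * _ = AdjoinRoot.of _ (toK x.2 r) ^ 1 * _
      rw [h0, map_zero, pow_one, zero_mul, zero_mul]
    · refine ⟨0, ?_⟩
      rw [pow_zero, one_mul, one_mul]
      refine Subtype.ext (funext fun x => ?_)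
      rw [a.2.1 x ⟨p.1, X.basicOpen_le r p.2⟩, a'.2.1 x ⟨p.1, X.basicOpen_le r p.2⟩]
      exact congrArg (fun t => t.1 p) e

end Groth.Agent.CycCover13
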