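import Groth.Agent.Lib.CycCover13.Cover

/-!
# Cyclic covers of integral schemes: the tautological root and connectedness
-/

set_option autoImplicit false
set_option backward.isDefEq.respectTransparency false
set_option backward.isDefEq.respectTransparency.types false
set_option linter.style.haveILetI false

universe u

open CategoryTheory CategoryTheory.Limits AlgebraicGeometry TopologicalSpace Opposite

noncomputable section

namespace Groth.Agent.CycCover13

variable {X : Scheme.{u}} [IsIntegral X] {d : ℕ} (D : Dat X d)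

/-- Sections over the preimage of an affine open. -/
def Dat.secRing (W : X.AffineZariskiSite) : Γ(D.cover, D.proj ⁻¹ᵁ W.1) →+* D.F W.1 :=
  (SymAlg11.affApp (coequifibered D) W).hom

theorem secRing_bijective (W : X.AffineZariskiSite) : Function.Bijective (D.secRing W) :=
  ConcreteCategory.bijective_of_isIso (SymAlg11.affApp (coequifibered D) W)

theorem secRing_res {U W : X.AffineZariskiSite} (h : W ≤ U) (s : Γ(D.cover, D.proj ⁻¹ᵁ U.1)) :
    D.secRing W (D.cover.presheaf.map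
      (homOfLE (D.proj.preimage_mono (Scheme.AffineZariskiSite.toOpens_mono h))).op s) =
        D.res (Scheme.AffineZariskiSite.toOpens_mono h) (D.secRing U s) :=
  ConcreteCategory.congr_hom ((SymAlg11.affNat (coequifibered D)).naturality (homOfLE h).op) s

theorem secRing_app (W : X.AffineZariskiSite) (a : Γ(X, W.1)) :
    D.secRing W (D.proj.app W.1 a) = D.str W.1 a :=
  ConcreteCategory.congr_hom (SymAlg11.str_affApp (coequifibered D) W) a

/-- The constant `b i • T` as a section. -/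
def Dat.tauF (i : D.ι) {U : X.Opens} (h : U ≤ D.V i) : D.F U :=
  ⟨fun _ => tau D.c (D.b i), fun _ _ => rfl, fun x j hj =>
    ord_le D j i hj (h x.2) ⟨AdjoinRoot.root _, theta_root _ _ _ _ _⟩⟩

/-- The tautological `d`-th root on `proj⁻¹ (V i)`. -/
def Dat.root (i : D.ι) : Γ(D.cover, D.proj ⁻¹ᵁ D.V i) :=
  ((secRing_bijective D (D.W i)).2 (D.tauF i le_rfl)).choose

theorem secRing_root (i : D.ι) : D.secRing (D.W i) (D.root i) = D.tauF i le_rfl :=
  ((secRing_bijective D (D.W i)).2 (D.tauF i le_rfl)).choose_spec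

theorem isUnit_tauF (i : D.ι) {U : X.Opens} (h : U ≤ D.V i) : IsUnit (D.tauF i h) := by
  refine (isUnit_pow_iff D.hd.ne').1 ?_
  have : D.tauF i h ^ d = D.str U (X.presheaf.map (homOfLE h).op (D.f i)) := by
    refine Subtype.ext (funext fun x => ?_)
    show tau D.c (D.b i) ^ d = AdjoinRoot.of _ (toK x.2 _)
    rw [tau_pow, chart_hyp D i h x.2]
  rw [this]
  exact ((D.hfu i).map _).map _

theorem isUnit_root (i : D.ι) : IsUnit (D.root i) := by
  obtain ⟨w, hw⟩ := (isUnit_tauF D i le_rfl).exists_right_inv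
  obtain ⟨s, hs⟩ := (secRing_bijective D (D.W i)).2 w
  refine IsUnit.of_mul_eq_one s ((secRing_bijective D (D.W i)).1 ?_)
  rw [map_mul, map_one, secRing_root, hs]
  exact hw

theorem le_iff_opens {U W : X.AffineZariskiSite} (h : W.1 ≤ U.1) (hb : W ≤ U) (s : Γ(D.cover, D.proj ⁻¹ᵁ U.1)) (x : W.1) :
    (D.secRing W (D.cover.presheaf.map (homOfLE (D.proj.preimage_mono h)).op s)).1 x =
      (D.secRing U s).1 ⟨x.1, h x.2⟩ := by
  rw [secRing_res D hb s]
  rfl

/-- Transition of the tautological roots. -/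
theorem root_trans (i j : D.ι) (g : Γ(X, D.V i ⊓ D.V j))
    (hg : ∀ (x : X) (hx : x ∈ D.V i ⊓ D.V j), toK hx g * D.b i = D.b j) :
    D.cover.presheaf.map (homOfLE (D.proj.preimage_mono (inf_le_right : D.V i ⊓ D.V j ≤ D.V j))).op (D.root j) =
      D.proj.app (D.V i ⊓ D.V j) g *
        D.cover.presheaf.map (homOfLE (D.proj.preimage_mono (inf_le_left : D.V i ⊓ D.V j ≤ D.V i))).op (D.root i) := by
  have hsmall : ∀ x : (D.V i ⊓ D.V j : X.Opens), ∃ W : X.AffineZariskiSite,
      (x : X) ∈ W.1 ∧ W.1 ≤ D.V i ⊓ D.V j ∧ W ≤ D.W i ∧ W ≤ D.W j := by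
    intro x
    obtain ⟨a, f, hf, ha⟩ := exists_basicOpen_le_affine_inter (D.aff i) (D.aff j) x.1 x.2
    refine ⟨(D.W i).basicOpen a, ha, ?_, (D.W i).basicOpen_le a, ?_⟩
    · show X.basicOpen a ≤ _
      exact le_inf (X.basicOpen_le a) (by rw [hf]; exact X.basicOpen_le f)
    · exact ⟨f, by show X.basicOpen f = X.basicOpen a; exact hf.symm⟩
  choose W hxW hW hWi hWj using hsmall
  refine D.cover.sheaf.eq_of_locally_eq' (fun x => D.proj ⁻¹ᵁ (W x).1) _
    (fun x => homOfLE (D.proj.preimage_mono (hW x))) (fun y hy => Opens.mem_iSup.2 ⟨⟨D.proj y, hy⟩, hxW ⟨D.proj y, hy⟩⟩)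
    _ _ fun x => ?_
  show D.cover.presheaf.map _ _ = D.cover.presheaf.map _ _
  rw [map_mul]
  simp only [← CommRingCat.comp_apply, ← Functor.map_comp]
  refine (secRing_bijective D (W x)).1 (Subtype.ext (funext fun y => ?_))
  rw [map_mul]
  show _ = (D.secRing (W x) _).1 y * (D.secRing (W x) _).1 y
  have h1 := le_iff_opens D ((hW x).trans inf_le_right) (hWj x) (D.root j) y
  have h2 := le_iff_opens D ((hW x).trans inf_le_left) (hWi x) (D.root i) y
  rw [secRing_root] at h1 h2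
  have h3 : (D.proj.app (D.V i ⊓ D.V j) ≫ D.cover.presheaf.map (homOfLE (D.proj.preimage_mono (hW x))).op) g =
      D.proj.app (W x).1 (X.presheaf.map (homOfLE (hW x)).op g) :=
    (ConcreteCategory.congr_hom (D.proj.naturality (homOfLE (hW x)).op) g).symm
  erw [h1, h2, h3]
  rw [secRing_app, str_apply]
  show tau D.c (D.b j) = AdjoinRoot.of _ _ * tau D.c (D.b i)
  rw [← tau_mul, ← hg y.1 (hW x y.2)]
  congr 2
  exact (congrArg (algebraMap (X.presheaf.stalk y.1) X.functionField)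
    (TopCat.Presheaf.germ_res_apply X.presheaf _ _ _ _)).symm

/-- A global function is a constant of `K[T]/(T^d - c)` lying in all the orders. -/
theorem exists_value (e : Γ(D.cover, ⊤)) :
    ∃ v : D.R, (∀ (x : X) (i : D.ι) (hi : x ∈ D.V i), v ∈ D.ord i hi) ∧ ∀ (W : X.AffineZariskiSite) (x : W.1),
      (D.secRing W (D.cover.presheaf.map (homOfLE le_top : D.proj ⁻¹ᵁ W.1 ⟶ ⊤).op e)).1 x = v := by
  let val : ∀ (W : X.AffineZariskiSite), D.F W.1 := fun W =>
    D.secRing W (D.cover.presheaf.map (homOfLE le_top : D.proj ⁻¹ᵁ W.1 ⟶ ⊤).op e)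
  have hres : ∀ {U W : X.AffineZariskiSite} (h : W ≤ U) (x : W.1),
      (val W).1 x = (val U).1 ⟨x.1, Scheme.AffineZariskiSite.toOpens_mono h x.2⟩ := by
    intro U W h x
    rw [← le_iff_opens D (Scheme.AffineZariskiSite.toOpens_mono h) h _ x]
    refine congrArg (fun s => (D.secRing W s).1 x) ?_
    rw [← CommRingCat.comp_apply, ← Functor.map_comp]
    rfl
  have hall : ∀ (U U' : X.AffineZariskiSite) (x : U.1) (x' : U'.1), (val U).1 x = (val U').1 x' := by
    intro U U' x x'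
    obtain ⟨p, hp⟩ := nonempty_preirreducible_inter U.1.2 U'.1.2 ⟨x.1, x.2⟩ ⟨x'.1, x'.2⟩
    obtain ⟨a, f, hf, ha⟩ := exists_basicOpen_le_affine_inter U.2 U'.2 p hp
    have h1 := hres (Scheme.AffineZariskiSite.basicOpen_le U a) ⟨p, ha⟩
    have h2 := hres (U := U') (W := U.basicOpen a) ⟨f, by show X.basicOpen f = X.basicOpen a; exact hf.symm⟩ ⟨p, ha⟩
    rw [(val U).2.1 x ⟨p, X.basicOpen_le a ha⟩, ← h1, h2]
    exact (val U').2.1 _ _
  obtain ⟨i₀, hi₀⟩ := D.cov (genericPoint X)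
  refine ⟨(val (D.W i₀)).1 ⟨_, hi₀⟩, fun x i hi => ?_, fun W x => hall W (D.W i₀) x ⟨_, hi₀⟩⟩
  rw [← hall (D.W i) (D.W i₀) ⟨x, hi⟩ ⟨_, hi₀⟩]
  exact (val (D.W i)).2.2 ⟨x, hi⟩ i hi

/-- The cyclic cover is connected if no nonzero element lies in all the twisted pieces. -/
theorem connectedSpace
    (h : ∀ (k : ℕ) (a : X.functionField), 0 < k → k < d → (∀ (i : D.ι) (x : X) (_ : x ∈ D.V i),
      ∃ s : X.presheaf.stalk x, algebraMap (X.presheaf.stalk x) X.functionField s * D.b i ^ k = a) → a = 0) :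
    ConnectedSpace D.cover := by
  obtain ⟨i₀, hi₀⟩ := D.cov (genericPoint X)
  haveI hne : Nonempty D.cover := by
    haveI : IsFinite D.proj := (isFinLocFreeOfDeg D).1.1
    haveI : Flat D.proj := (isFinLocFreeOfDeg D).1.2.1
    haveI : Surjective D.proj := D.proj.one_le_finrank_iff_surjective.1 fun y => by
      rw [(isFinLocFreeOfDeg D).2 y]; exact D.hd
    exact ⟨(D.proj.surjective (genericPoint X)).choose⟩
  refine { toNonempty := hne, toPreconnectedSpace := preconnectedSpace_iff_clopen.mpr fun s hs => ?_ }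
  by_contra hcon
  rw [not_or] at hcon
  obtain ⟨p, hp⟩ := Set.nonempty_iff_ne_empty.mpr hcon.1
  obtain ⟨q, hq⟩ := Set.nonempty_compl.mpr hcon.2
  let O : ULift.{u} Bool → D.cover.Opens := fun i => bif i.down then ⟨s, hs.2⟩ else ⟨sᶜ, hs.1.isOpen_compl⟩
  let sf : ∀ i, Γ(D.cover, O i) := fun i => bif i.down then 1 else 0
  have hcomp : TopCat.Presheaf.IsCompatible D.cover.presheaf O sf := by
    rintro ⟨i⟩ ⟨j⟩
    rcases i with _ | _ <;> rcases j with _ | _
    · rfl
    · haveI : Subsingleton Γ(D.cover, O ⟨false⟩ ⊓ O ⟨true⟩) := by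
        rw [show O ⟨false⟩ ⊓ O ⟨true⟩ = ⊥ from Opens.ext (Set.compl_inter_self s)]
        infer_instance
      exact Subsingleton.elim _ _
    · haveI : Subsingleton Γ(D.cover, O ⟨true⟩ ⊓ O ⟨false⟩) := by
        rw [show O ⟨true⟩ ⊓ O ⟨false⟩ = ⊥ from Opens.ext (Set.inter_compl_self s)]
        infer_instance
      exact Subsingleton.elim _ _
    · rfl
  have hcovO : (⊤ : D.cover.Opens) ≤ ⨆ i, O i := fun x _ => by
    rw [Opens.mem_iSup]
    by_cases hx : x ∈ s
    · exact ⟨⟨true⟩, hx⟩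
    · exact ⟨⟨false⟩, hx⟩
  obtain ⟨e, he, -⟩ := D.cover.sheaf.existsUnique_gluing' O ⊤ (fun i => homOfLE le_top) hcovO sf hcomp
  have hee : e * e = e := by
    refine D.cover.sheaf.eq_of_locally_eq' O ⊤ (fun i => homOfLE le_top) hcovO _ _ fun i => ?_
    show D.cover.presheaf.map _ (e * e) = D.cover.presheaf.map _ e
    rw [map_mul]
    erw [he i]
    rcases i with ⟨_ | _⟩ <;> simp [sf]
  obtain ⟨v, hv, hval⟩ := exists_value D e
  have hv0 : ∀ k : Fin d, (k : ℕ) ≠ 0 → (coord D.hd D.c).repr v k = 0 := fun k hk => by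
    refine h k _ (Nat.pos_of_ne_zero hk) k.2 fun i x hx => ?_
    haveI := D.ne i
    exact (mem_range_theta_iff D.hd D.c _ _ _ _ (D.hb i) v).1 (hv x i hx) k
  have hvv : v * v = v := by
    have := congrArg (fun t => (D.secRing (D.W i₀) (D.cover.presheaf.map
      (homOfLE le_top : D.proj ⁻¹ᵁ (D.W i₀).1 ⟶ ⊤).op t)).1 ⟨_, hi₀⟩) hee
    simp only [map_mul] at this
    rwa [Subring.coe_mul, Pi.mul_apply, hval] at this
  obtain ⟨a, ha⟩ : ∃ a, v = AdjoinRoot.of (pol d D.c) a := ⟨_, eq_of_of_coord D.hd D.c v hv0⟩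
  have haa : a * a = a := by
    refine AdjoinRoot.of.injective_of_degree_ne_zero (f := pol d D.c) (by rw [Polynomial.degree_X_pow_sub_C D.hd]; exact_mod_cast D.hd.ne') ?_
    rw [map_mul, ← ha, hvv]
  have hconst : ∀ t : (Γ(D.cover, ⊤) : Type u), (∀ (W : X.AffineZariskiSite) (x : W.1),
      (D.secRing W (D.cover.presheaf.map (homOfLE le_top : D.proj ⁻¹ᵁ W.1 ⟶ ⊤).op t)).1 x = v) → e = t := by
    intro t ht
    have hW : ∀ y : D.cover, ∃ W : X.AffineZariskiSite, D.proj y ∈ W.1 := fun y =>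
      let ⟨i, hi⟩ := D.cov (D.proj y); ⟨D.W i, hi⟩
    choose W hW using hW
    refine D.cover.sheaf.eq_of_locally_eq' (fun y => D.proj ⁻¹ᵁ (W y).1) ⊤ (fun y => homOfLE le_top)
      (fun y _ => Opens.mem_iSup.2 ⟨y, hW y⟩) _ _ fun y => ?_
    refine (secRing_bijective D (W y)).1 (Subtype.ext (funext fun x => ?_))
    exact (hval (W y) x).trans (ht (W y) x).symm
  rcases IsIdempotentElem.iff_eq_zero_or_one.1 haa with rfl | rfl
  · have h0 : e = 0 := hconst 0 fun W x => by rw [map_zero, map_zero, ha, map_zero]; rfl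
    haveI : Nonempty (O ⟨true⟩ : D.cover.Opens) := ⟨⟨p, hp⟩⟩
    haveI := D.cover.component_nontrivial (O ⟨true⟩)
    refine one_ne_zero (α := Γ(D.cover, O ⟨true⟩)) ?_
    have := he ⟨true⟩
    rw [h0, map_zero] at this
    exact this.symm
  · have h1 : e = 1 := hconst 1 fun W x => by rw [map_one, map_one, ha, map_one]; rfl
    haveI : Nonempty (O ⟨false⟩ : D.cover.Opens) := ⟨⟨q, hq⟩⟩
    haveI := D.cover.component_nontrivial (O ⟨false⟩)
    refine one_ne_zero (α := Γ(D.cover, O ⟨false⟩)) ?_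
    have := he ⟨false⟩
    rw [h1, map_one] at this
    exact this

end Groth.Agent.CycCover13
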